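import Groth.Agent.L18.ValCrit2
import Groth.Agent.L21.Smooth.Scheme
import Groth.Agent.L21.Curve.DVR
import Groth.Agent.L21.CurveTop
import Groth.Agent.L21.PrimeChain.Prelim
import Mathlib.AlgebraicGeometry.SpreadingOut
import Mathlib.AlgebraicGeometry.ValuativeCriterion
import Mathlib.AlgebraicGeometry.FunctionField

/-!
Moving a morphism from a proper regular curve through a specialization of the image of its generic point.
-/

set_option autoImplicit false
set_option linter.style.haveILetI false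
set_option backward.isDefEq.respectTransparency false
set_option backward.isDefEq.respectTransparency.types false

universe u

open CategoryTheory CategoryTheory.Limits AlgebraicGeometry IsLocalRing TopologicalSpace

noncomputable section

namespace Groth.L21.Lift

variable {C X S : Scheme.{u}} [IsIntegral C]

theorem stalkSpecializes_injective (c : C) (h : genericPoint C ⤳ c) :
    Function.Injective (C.presheaf.stalkSpecializes h ≫ C.residue (genericPoint C)).hom := by
  intro a b hab
  refine IsFractionRing.injective (C.presheaf.stalk c) C.functionField ?_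
  haveI : IsLocalHom (C.residue (genericPoint C)).hom := inferInstanceAs (IsLocalHom (IsLocalRing.residue _))
  refine RingHom.injective (R := C.functionField) (C.residue (genericPoint C)).hom ?_
  exact hab

theorem exists_fraction (c : C) (h : genericPoint C ⤳ c) (z : C.residueField (genericPoint C)) :
    ∃ a b : C.presheaf.stalk c, b ≠ 0 ∧
      (C.presheaf.stalkSpecializes h ≫ C.residue (genericPoint C)) b * z =
        (C.presheaf.stalkSpecializes h ≫ C.residue (genericPoint C)) a := by
  obtain ⟨w, rfl⟩ := IsLocalRing.residue_surjective (R := C.presheaf.stalk (genericPoint C)) z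
  obtain ⟨⟨a, b⟩, hab⟩ := IsLocalization.surj (nonZeroDivisors (C.presheaf.stalk c)) (S := C.functionField) w
  refine ⟨a, b.1, nonZeroDivisors.coe_ne_zero b, ?_⟩
  have := congrArg (C.residue (genericPoint C)).hom hab
  rw [map_mul, mul_comm] at this
  exact this

/-- A valuation ring of the function field dominating the valuation ring of a point is equal to it. -/
theorem bijective_of_dominates (c : C) (h : genericPoint C ⤳ c) [ValuationRing (C.presheaf.stalk c)]
    (W : ValuationSubring (C.residueField (genericPoint C))) (ψ : C.presheaf.stalk c →+* W) [IsLocalHom ψ]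
    (hψ : ∀ a, ((ψ a : W) : C.residueField (genericPoint C)) =
      (C.presheaf.stalkSpecializes h ≫ C.residue (genericPoint C)) a) :
    Function.Bijective ψ := by
  have hinj := stalkSpecializes_injective c h
  refine ⟨fun a b hab => hinj (by rw [← hψ, ← hψ, hab]), fun w => ?_⟩
  obtain ⟨a, b, hb, hab⟩ := exists_fraction c h (w : C.residueField (genericPoint C))
  have h1 : ψ b * w = ψ a := Subtype.ext (by rw [MulMemClass.coe_mul, hψ, hψ]; exact hab)
  have hb' : ψ b ≠ 0 := fun h0 => hb (hinj (by rw [← hψ, h0, map_zero]; rfl))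
  obtain ⟨t, ht⟩ := ValuationRing.cond a b
  rcases ht with ht | ht
  · rcases eq_or_ne a 0 with rfl | ha
    · exact ⟨0, by rw [map_zero] at h1 ⊢; exact ((mul_eq_zero.1 h1).resolve_left hb').symm⟩
    rw [← ht, map_mul, mul_assoc] at h1
    have h2 : ψ t * w = 1 := mul_left_cancel₀ (fun h0 => ha (hinj (by rw [← hψ, h0, map_zero]; rfl)))
      (h1.trans (mul_one _).symm)
    obtain ⟨u, hu⟩ := (isUnit_map_iff ψ t).1 (IsUnit.of_mul_eq_one _ h2)
    refine ⟨↑u⁻¹, ?_⟩
    calc ψ ↑u⁻¹ = ψ ↑u⁻¹ * (ψ t * w) := by rw [h2, mul_one]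
      _ = w := by rw [← mul_assoc, ← map_mul, ← hu, Units.inv_mul, map_one, one_mul]
  · exact ⟨t, mul_left_cancel₀ hb' (by rw [← map_mul, ht, h1])⟩

theorem exists_through (sX : X ⟶ S) [LocallyOfFiniteType sX] (sC : C ⟶ S) [IsProper sC] [IsNoetherian C]
    (hd : topologicalKrullDim C = 1)
    (hN : ∀ x : C, IsDomain (C.presheaf.stalk x) ∧ IsIntegrallyClosed (C.presheaf.stalk x))
    (γ : C ⟶ X) (hγ : γ ≫ sX = sC) {y : X} (hsp : γ (genericPoint C) ⤳ y) :
    ∃ γ' : C ⟶ X, γ' ≫ sX = sC ∧ γ' (genericPoint C) = γ (genericPoint C) ∧ y ∈ Set.range γ' := by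
  classical
  let η := genericPoint C
  by_cases hy : y = γ η
  · exact ⟨γ, hγ, rfl, η, hy.symm⟩
  obtain ⟨W, g, _, hgW, -, hgc⟩ := Groth.L18.exists_valuation_through γ η y hsp
  have hu : UniversallyClosed sC := inferInstance
  rw [UniversallyClosed.eq_valuativeCriterion] at hu
  have w : C.fromSpecResidueField η ≫ sC = Spec.map (CommRingCat.ofHom W.subtype) ≫ g ≫ sX := by
    rw [← hγ, reassoc_of% hgW]
  obtain ⟨⟨l, hl₁, hl₂⟩⟩ := (hu.1 ⟨W, C.residueField η, C.fromSpecResidueField η, g ≫ sX, ⟨w⟩⟩).exists_lift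
  change Spec.map (CommRingCat.ofHom W.subtype) ≫ l = C.fromSpecResidueField η at hl₁
  let c : C := l (closedPoint W)
  have hs : η ⤳ c := genericPoint_specializes c
  let ψ : C.presheaf.stalk c ⟶ CommRingCat.of W := Scheme.stalkClosedPointTo l
  have hψl : Spec.map ψ ≫ C.fromSpecStalk c = l := Scheme.Spec_stalkClosedPointTo_fromSpecStalk l
  have hψ : ψ ≫ CommRingCat.ofHom W.subtype = C.presheaf.stalkSpecializes hs ≫ C.residue η := by
    apply Spec.map_injective
    rw [← cancel_mono (C.fromSpecStalk c), Spec.map_comp, Category.assoc, hψl, hl₁, Spec.map_comp,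
      Category.assoc, Scheme.SpecMap_stalkSpecializes_fromSpecStalk]
    rfl
  have hψ' : ∀ a, ((ψ.hom a : W) : C.residueField η) = (C.presheaf.stalkSpecializes hs ≫ C.residue η) a :=
    fun a => congr($hψ a)
  have hne : c ≠ η := by
    intro hc
    have hsurj : Function.Surjective (C.presheaf.stalkSpecializes hs ≫ C.residue η).hom := by
      intro z
      obtain ⟨w, rfl⟩ := IsLocalRing.residue_surjective (R := C.presheaf.stalk η) z
      have hbij : IsIso (C.presheaf.stalkSpecializes hs) :=
        (TopCat.Presheaf.stalkCongr C.presheaf (Inseparable.of_eq hc)).isIso_hom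
      obtain ⟨a, rfl⟩ := ((ConcreteCategory.isIso_iff_bijective _).1 hbij).2 w
      exact ⟨a, rfl⟩
    have htop : Function.Surjective W.subtype := fun z => by
      obtain ⟨a, ha⟩ := hsurj z
      exact ⟨ψ.hom a, (hψ' a).trans ha⟩
    haveI : IsIso (CommRingCat.ofHom W.subtype) :=
      (ConcreteCategory.isIso_iff_bijective _).2 ⟨Subtype.val_injective, htop⟩
    refine hy ?_
    let m := Spec.map (CommRingCat.ofHom W.subtype)
    have hp : m ((inv m) (closedPoint W)) = closedPoint W := by
      rw [← Scheme.Hom.comp_apply, IsIso.inv_hom_id]; rfl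
    rw [← hgc, ← hp, ← Scheme.Hom.comp_apply]
    simp only [m]
    rw [hgW, Scheme.Hom.comp_apply]
    exact congrArg _ (Scheme.fromSpecResidueField_apply _ _)
  haveI := Groth.L21.Curve.isDVR_stalk hd.le hN hne
  haveI : IsLocalHom ψ.hom := inferInstanceAs (IsLocalHom (Scheme.stalkClosedPointTo l).hom)
  haveI : IsIso ψ := (ConcreteCategory.isIso_iff_bijective _).2 (bijective_of_dominates c hs W ψ.hom hψ')
  let φ : Spec (C.presheaf.stalk c) ⟶ X := Spec.map (inv ψ) ≫ g
  have hφ : φ ≫ sX = C.fromSpecStalk c ≫ sC := by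
    rw [← cancel_epi (Spec.map ψ), reassoc_of% hψl, hl₂]
    simp only [φ, Category.assoc]
    rw [← Spec.map_comp_assoc, IsIso.inv_hom_id, Spec.map_id, Category.id_comp]
  obtain ⟨U, hcU, f, hfφ, hf⟩ := spread_out_of_isGermInjective' sC sX φ hφ
  have hηU : η ∈ U := hs.mem_open U.2 hcU
  have hfc : f ⟨c, hcU⟩ = y := by
    have h1 : φ (closedPoint _) = f ⟨c, hcU⟩ := by
      rw [hfφ, Scheme.Hom.comp_apply]
      exact congrArg _ (U.ι.injective (by
        rw [← Scheme.Hom.comp_apply, Scheme.Opens.fromSpecStalkOfMem_ι, Scheme.fromSpecStalk_closedPoint]; rfl))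
    rw [← h1, Scheme.Hom.comp_apply, ← hgc]
    refine congrArg _ ?_
    have h2 : (Spec.map ψ) (closedPoint W) = closedPoint (C.presheaf.stalk c) :=
      IsLocalRing.comap_closedPoint ψ.hom
    rw [← h2, ← Scheme.Hom.comp_apply, ← Spec.map_comp, IsIso.inv_hom_id, Spec.map_id]
    rfl
  -- the two morphisms agree near the generic point
  have heq : C.fromSpecResidueField η ≫ γ =
      Spec.map (C.presheaf.stalkSpecializes hs ≫ C.residue η) ≫ φ := by
    rw [← hgW, ← hψ]
    simp only [φ]
    rw [← Spec.map_comp_assoc, ← Category.assoc (inv ψ), IsIso.inv_hom_id, Category.id_comp]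
  haveI : IsIntegral (U : Scheme.{u}) := by
    haveI : Nonempty (U : Scheme.{u}) := ⟨⟨c, hcU⟩⟩
    exact isIntegral_of_isOpenImmersion U.ι
  let η' : (U : Scheme.{u}) := ⟨η, hηU⟩
  have hagree : (U : Scheme.{u}).fromSpecStalk η' ≫ f = (U : Scheme.{u}).fromSpecStalk η' ≫ U.ι ≫ γ := by
    haveI : IsIso (C.residue η) := (ConcreteCategory.isIso_iff_bijective _).2
      ⟨RingHom.injective (R := C.functionField) _, IsLocalRing.residue_surjective⟩
    haveI : IsIso (U.ι.stalkMap η') := inferInstance
    rw [← cancel_epi (Spec.map (inv (U.ι.stalkMap η')))]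
    change U.fromSpecStalkOfMem η hηU ≫ f = U.fromSpecStalkOfMem η hηU ≫ U.ι ≫ γ
    have h1 : Spec.map (C.presheaf.stalkSpecializes hs) ≫ U.fromSpecStalkOfMem c hcU =
        U.fromSpecStalkOfMem η hηU := by
      rw [← cancel_mono U.ι, Category.assoc, Scheme.Opens.fromSpecStalkOfMem_ι,
        Scheme.Opens.fromSpecStalkOfMem_ι, Scheme.SpecMap_stalkSpecializes_fromSpecStalk]
    rw [Scheme.Opens.fromSpecStalkOfMem_ι_assoc, ← h1, Category.assoc, ← hfφ, ← cancel_epi (Spec.map (C.residue η)),
      ← Spec.map_comp_assoc, ← heq]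
    rfl
  obtain ⟨V, hηV, hV⟩ := spread_out_unique_of_isGermInjective' f (U.ι ≫ γ) hagree
  let V₀ : C.Opens := U.ι ''ᵁ V
  have hV₀ : η ∈ V₀ := ⟨η', hηV, rfl⟩
  have hfin := Groth.L21.CurveTop.finite_of_isClosed (X := C) hd.le (Z := (V₀ : Set C)ᶜ) V₀.2.isClosed_compl
    fun h => (h ▸ Set.mem_univ η : η ∈ (V₀ : Set C)ᶜ) hV₀
  have hT : IsClosed (((V₀ : Set C)ᶜ) \ {c}) := by
    have : ((V₀ : Set C)ᶜ) \ {c} = ⋃ x ∈ ((V₀ : Set C)ᶜ) \ {c}, {x} := (Set.biUnion_of_singleton _).symm
    rw [this]
    exact (hfin.1.subset Set.sdiff_subset).isClosed_biUnion fun x hx => hfin.2 x hx.1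
  have hcc : IsClosed ({c} : Set C) := by
    by_cases hc : c ∈ V₀
    · have h2 := Groth.L21.CurveTop.finite_of_isClosed (X := C) hd.le (Z := closure {c}) isClosed_closure
        (fun h => hne (((genericPoint_spec C).eq (h.symm ▸ rfl : closure ({c} : Set C) = _)).symm))
      exact h2.2 c (subset_closure rfl)
    · exact hfin.2 c hc
  let B : C.Opens := U ⊓ ⟨(((V₀ : Set C)ᶜ) \ {c})ᶜ, hT.isOpen_compl⟩
  let A : C.Opens := ⟨{c}ᶜ, hcc.isOpen_compl⟩
  have hcB : c ∈ B := ⟨hcU, fun h => h.2 rfl⟩
  obtain ⟨γ', hA, hB⟩ := Groth.L21.PrimeChain.exists_glue_two A.ι B.ι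
    (fun x => by
      simp only [Scheme.Opens.range_ι, SetLike.mem_coe]
      by_cases h : x = c
      · exact Or.inr (h ▸ hcB)
      · exact Or.inl h)
    (A.ι ≫ γ) (C.homOfLE (inf_le_left : B ≤ U) ≫ f) (by
      have hrange : Set.range (pullback.snd A.ι B.ι ≫ C.homOfLE (inf_le_left : B ≤ U)) ⊆ Set.range V.ι := by
        rintro _ ⟨t, rfl⟩
        rw [Scheme.Opens.range_ι]
        have hA' : A.ι (pullback.fst A.ι B.ι t) = B.ι (pullback.snd A.ι B.ι t) := by
          rw [← Scheme.Hom.comp_apply, ← Scheme.Hom.comp_apply, pullback.condition]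
        have hmem : B.ι (pullback.snd A.ι B.ι t) ∈ V₀ := by
          by_contra hv
          exact (pullback.snd A.ι B.ι t).2.2 ⟨hv, fun hc => (pullback.fst A.ι B.ι t).2
            (show (pullback.fst A.ι B.ι t).1 ∈ ({c} : Set C) from by
              rw [show (pullback.fst A.ι B.ι t).1 = B.ι (pullback.snd A.ι B.ι t) from hA']; exact hc)⟩
        obtain ⟨v, hv, hvx⟩ := hmem
        convert hv using 1
        refine (U.ι.injective (Eq.trans hvx ?_)).symm
        rw [← Scheme.Hom.comp_apply, ← Scheme.Hom.comp_apply, Category.assoc, Scheme.homOfLE_ι]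
      have hk := IsOpenImmersion.lift_fac V.ι _ hrange
      rw [← Category.assoc (pullback.snd _ _), ← hk, Category.assoc, hV, reassoc_of% hk, Scheme.homOfLE_ι_assoc,
        pullback.condition_assoc])
  have hηA : η ∈ A := fun h => hne h.symm
  refine ⟨γ', Groth.L21.PrimeChain.hom_ext_two_opens A.ι B.ι (fun x => by
      simp only [Scheme.Opens.range_ι, SetLike.mem_coe]
      by_cases h : x = c
      · exact Or.inr (h ▸ hcB)
      · exact Or.inl h) (by rw [reassoc_of% hA, hγ])
      (by rw [reassoc_of% hB, hf, Scheme.homOfLE_ι_assoc]), ?_, c, ?_⟩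
  · exact congr($hA ⟨η, hηA⟩)
  · refine Eq.trans ?_ hfc
    refine Eq.trans congr($hB ⟨c, hcB⟩) ?_
    rw [Scheme.Hom.comp_apply]
    refine congrArg _ (U.ι.injective ?_)
    rw [← Scheme.Hom.comp_apply, Scheme.homOfLE_ι]
    rfl

end Groth.L21.Lift
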